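import Groth.Agent.IdealSub.Finite
import Groth.Agent.KFlatLib.Scheme.ExtZero
import Groth.Agent.KFlatLib.Scheme.Grothendieck
import Mathlib.CategoryTheory.Abelian.GrothendieckCategory.Subobject

/-!
# Extensions by zero of structure sheaves of affine opens are Noetherian objects
-/

set_option linter.style.haveILetI false
set_option backward.isDefEq.respectTransparency false
set_option backward.isDefEq.respectTransparency.types false

universe u

open CategoryTheory CategoryTheory.Limits AlgebraicGeometry TopologicalSpace Opposite Groth.Agent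

namespace Groth.Agent.IdealSub

/-- Chains of subobjects of the structure sheaf of a Noetherian scheme stabilise. -/
theorem chain_stabilizes {X : Scheme.{u}} [IsNoetherian X] (c : ℕ →o Subobject (Coh.structureModule X)) :
    ∃ N : ℕ, ∀ m : ℕ, N ≤ m → c N = c m := by
  classical
  let K := ULift.{u} ℕ
  let F : K ⥤ MonoOver (Coh.structureModule X) :=
    { obj := fun k => MonoOver.mk (c k.down).arrow
      map := fun {k l} f => MonoOver.homMk (Subobject.ofLE (c k.down) (c l.down)
        (c.monotone (show k.down ≤ l.down from (show k ≤ l from leOfHom f)))) (Subobject.ofLE_arrow _)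
      map_id := fun _ => Subsingleton.elim _ _
      map_comp := fun _ _ => Subsingleton.elim _ _ }
  let D : K ⥤ X.Modules := F ⋙ MonoOver.forget _ ⋙ Over.forget _
  haveI : IsDirectedOrder K := ⟨fun k l => ⟨⟨max k.down l.down⟩, le_max_left k.down l.down, le_max_right k.down l.down⟩⟩
  let κ : colimit D ⟶ Coh.structureModule X := colimit.desc D (Cocone.mk _
    { app := fun k => (c k.down).arrow
      naturality := fun k l f => by
        change Subobject.ofLE _ _ _ ≫ (c l.down).arrow = (c k.down).arrow ≫ 𝟙 _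
        simp })
  have hκ : ∀ k, colimit.ι D k ≫ κ = (c k.down).arrow := fun k => colimit.ι_desc _ _
  haveI : Mono κ := IsGrothendieckAbelian.mono_of_isColimit_monoOver F (colimit.isColimit D) κ hκ
  obtain ⟨S, hS⟩ := exists_finset_gen (colimit D) κ
  let st := fun (n : ℕ) (x : X) =>
    (DerSch.stalkFunctor X x).map (colimit.ι D (⟨n⟩ : K))
  have hmono : ∀ n m, n ≤ m → ∀ x, LinearMap.range (st n x).hom ≤ LinearMap.range (st m x).hom := by
    intro n m h x
    have e : D.map (homOfLE (show (⟨n⟩ : K) ≤ ⟨m⟩ from h)) ≫ colimit.ι D ⟨m⟩ = colimit.ι D ⟨n⟩ := colimit.w _ _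
    rintro _ ⟨z, rfl⟩
    refine ⟨(DerSch.stalkFunctor X x).map (D.map (homOfLE (show (⟨n⟩ : K) ≤ ⟨m⟩ from h))) z, ?_⟩
    change _ = (DerSch.stalkFunctor X x).map (colimit.ι D ⟨n⟩) z
    rw [← e, Functor.map_comp]
    rfl
  have hfin : ∀ p ∈ S, ∃ n : ℕ, ∀ (x : X) (hx : x ∈ p.1),
      (colimit D).presheaf.germ p.1 x hx p.2 ∈ LinearMap.range (st n x).hom := by
    rintro ⟨V, s⟩ -
    have hloc : ∀ x : (V : Set X), ∃ (W : X.Opens) (n : ℕ), x.1 ∈ W ∧ ∀ (y : X) (hy : y ∈ V), y ∈ W →
        (colimit D).presheaf.germ V y hy s ∈ LinearMap.range (st n y).hom := by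
      rintro ⟨x, hx⟩
      let Φ := DerSch.stalkFunctor X x
      obtain ⟨⟨n⟩, z, hz⟩ := Concrete.isColimit_exists_rep _
        (isColimitOfPreserves Φ (colimit.isColimit D)) ((colimit D).presheaf.germ V x hx s)
      obtain ⟨W, hxW, t, rfl⟩ := (D.obj ⟨n⟩).presheaf.germ_exist z
      change Φ.map (colimit.ι D ⟨n⟩) _ = _ at hz
      erw [DerSch.stalkFunctor_map_germ] at hz
      obtain ⟨O, hxO, i₁, i₂, hO⟩ := (colimit D).presheaf.germ_eq x hxW hx _ _ hz
      refine ⟨O, n, hxO, fun y hy hyO => ⟨(D.obj ⟨n⟩).presheaf.germ W y (i₁.le hyO) t, ?_⟩⟩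
      change (DerSch.stalkFunctor X y).map (colimit.ι D ⟨n⟩) _ = _
      erw [DerSch.stalkFunctor_map_germ]
      have h' := congrArg ((colimit D).presheaf.germ O y hyO) hO
      erw [TopCat.Presheaf.germ_res_apply, TopCat.Presheaf.germ_res_apply] at h'
      exact h'
    choose W n hxW hW using hloc
    obtain ⟨T, hT⟩ := (NoetherianSpace.isCompact (V : Set X)).elim_finite_subcover
      (fun x => (W x : Set X)) (fun x => (W x).isOpen) (fun x hx => Set.mem_iUnion.2 ⟨⟨x, hx⟩, hxW ⟨x, hx⟩⟩)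
    refine ⟨T.sup n, fun x hx => ?_⟩
    obtain ⟨i, hi, hxi⟩ := Set.mem_iUnion₂.1 (hT hx)
    exact hmono _ _ (Finset.le_sup hi) x (hW i x hx hxi)
  choose n hn using hfin
  refine ⟨S.attach.sup fun p => n p.1 p.2, fun m hm => ?_⟩
  generalize hNdef : (S.attach.sup fun p => n p.1 p.2) = N at hm ⊢
  have hsurj : ∀ x, Function.Surjective (st N x) := by
    intro x
    refine LinearMap.range_eq_top.1 (top_unique ((hS x trivial).symm.le.trans (Submodule.span_le.2 ?_)))
    rintro _ ⟨⟨p, hp, hx⟩, rfl⟩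
    refine hmono _ _ ?_ x (hn p hp x hx)
    rw [← hNdef]
    exact Finset.le_sup (f := fun p => n p.1 p.2) (Finset.mem_attach S ⟨p, hp⟩)
  have hmonoι : ∀ k, Mono (colimit.ι D k) := fun k => by
    haveI : Mono (colimit.ι D k ≫ κ) := by rw [hκ k]; infer_instance
    exact mono_of_mono _ κ
  haveI := hmonoι ⟨N⟩
  haveI := hmonoι ⟨m⟩
  haveI : IsIso (colimit.ι D (⟨N⟩ : K)) := KFlatLib.isIso_of_stalk _ fun x =>
    (ConcreteCategory.isIso_iff_bijective _).2
      ⟨(ModuleCat.mono_iff_injective _).1 inferInstance, hsurj x⟩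
  have hw : D.map (homOfLE (show (⟨N⟩ : K) ≤ ⟨m⟩ from hm)) ≫ colimit.ι D ⟨m⟩ = colimit.ι D ⟨N⟩ := colimit.w _ _
  haveI : Epi (colimit.ι D (⟨m⟩ : K)) := by
    haveI : Epi (D.map (homOfLE (show (⟨N⟩ : K) ≤ ⟨m⟩ from hm)) ≫ colimit.ι D ⟨m⟩) := by rw [hw]; infer_instance
    exact epi_of_epi (D.map (homOfLE (show (⟨N⟩ : K) ≤ ⟨m⟩ from hm))) _
  haveI : IsIso (colimit.ι D (⟨m⟩ : K)) := isIso_of_mono_of_epi _
  refine le_antisymm (c.monotone hm) (Subobject.le_of_comm (colimit.ι D ⟨m⟩ ≫ inv (colimit.ι D ⟨N⟩)) ?_)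
  rw [Category.assoc, ← hκ ⟨N⟩, IsIso.inv_hom_id_assoc]
  exact hκ ⟨m⟩

/-- Chains of subobjects of an extension by zero of the structure sheaf of a Noetherian open stabilise. -/
theorem chain_stabilizes_lsh {U X : Scheme.{u}} [IsNoetherian U] (j : U ⟶ X) [IsOpenImmersion j]
    {M : X.Modules} (e : M ≅ (KFlatLib.lsh j).obj (Coh.structureModule U)) (c : ℕ →o Subobject M) :
    ∃ N : ℕ, ∀ m : ℕ, N ≤ m → c N = c m := by
  let R := Scheme.Modules.restrictFunctor j
  let i : R.obj M ≅ Coh.structureModule U :=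
    R.mapIso e ≪≫ ((asIso (KFlatLib.lshAdj j).unit).app (Coh.structureModule U)).symm
  have hle : ∀ n m (h : n ≤ m), R.map (Subobject.ofLE (c n) (c m) (c.monotone h)) ≫ R.map (c m).arrow ≫ i.hom =
      R.map (c n).arrow ≫ i.hom := fun n m h => by
    rw [← Functor.map_comp_assoc, Subobject.ofLE_arrow]
  let c' : ℕ →o Subobject (Coh.structureModule U) :=
    { toFun := fun n => Subobject.mk (R.map (c n).arrow ≫ i.hom)
      monotone' := fun n m h => Subobject.mk_le_mk_of_comm (R.map (Subobject.ofLE (c n) (c m) (c.monotone h)))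
        (hle n m h) }
  obtain ⟨N, hN⟩ := chain_stabilizes c'
  refine ⟨N, fun m hm => ?_⟩
  have h1 := hN m hm
  let φ := Subobject.ofLE (c N) (c m) (c.monotone hm)
  have h2 : R.map φ = (Subobject.isoOfMkEqMk _ _ h1).hom := by
    rw [← cancel_mono (R.map (c m).arrow ≫ i.hom), hle N m hm]
    exact (Subobject.ofMkLEMk_comp _).symm
  have hz : ∀ (S : Subobject M) (x : X), x ∉ Set.range j.base →
      IsZero ((DerSch.stalkFunctor X x).obj (S : X.Modules)) := fun S x hx =>
    IsZero.of_mono ((DerSch.stalkFunctor X x).map (S.arrow ≫ e.hom)) (KFlatLib.isZero_stalk_lsh j x hx _)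
  haveI : IsIso φ := KFlatLib.isIso_of_restrict_of_stalk j φ (by rw [h2]; infer_instance)
    (hz _) (hz _)
  refine le_antisymm (c.monotone hm) (Subobject.le_of_comm (inv φ) ?_)
  rw [IsIso.inv_comp_eq]
  exact (Subobject.ofLE_arrow _).symm

end Groth.Agent.IdealSub
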