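import Groth.Agent.QCoh.Sections
import Groth.Prelude.Def_FlatMod2
import Mathlib.AlgebraicGeometry.Noetherian
import Mathlib.AlgebraicGeometry.AffineScheme
import Mathlib.Topology.NoetherianSpace

/-!
# Subsheaves of ideals on a Noetherian scheme have finitely many generating sections
-/

set_option linter.style.haveILetI false
set_option backward.isDefEq.respectTransparency false
set_option backward.isDefEq.respectTransparency.types false

universe u

open CategoryTheory CategoryTheory.Limits AlgebraicGeometry TopologicalSpace Opposite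

namespace Groth.Agent.IdealSub

/-- One element making the saturation of an ideal away from a prime constant. -/
lemma exists_notMem_mul_mem {A : Type*} [CommRing A] [IsNoetherianRing A] (J q : Ideal A) [hq : q.IsPrime] :
    ∃ f ∉ q, ∀ a : A, (∃ m ∉ q, m * a ∈ J) → f * a ∈ J := by
  let K : Ideal A :=
    { carrier := {a | ∃ m ∉ q, m * a ∈ J}
      add_mem' := by
        rintro a b ⟨m, hm, ha⟩ ⟨n, hn, hb⟩
        refine ⟨m * n, fun h => (hq.mem_or_mem h).elim hm hn, ?_⟩
        rw [mul_add]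
        exact J.add_mem (by rw [mul_comm m n, mul_assoc]; exact J.mul_mem_left _ ha)
          (by rw [mul_assoc]; exact J.mul_mem_left _ hb)
      zero_mem' := ⟨1, fun h => hq.ne_top ((Ideal.eq_top_iff_one q).2 h), by simp⟩
      smul_mem' := by
        rintro r a ⟨m, hm, ha⟩
        exact ⟨m, hm, by rw [smul_eq_mul, mul_left_comm]; exact J.mul_mem_left _ ha⟩ }
  obtain ⟨S, hS⟩ := IsNoetherian.noetherian K
  have hmem : ∀ a ∈ S, ∃ m ∉ q, m * a ∈ J := fun a ha =>
    (show a ∈ K from hS ▸ Submodule.subset_span ha)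
  choose m hm hmJ using hmem
  refine ⟨∏ a ∈ S.attach, m a.1 a.2, ?_, ?_⟩
  · rw [Ideal.IsPrime.prod_mem_iff]
    rintro ⟨a, -, ha⟩
    exact hm a.1 a.2 ha
  · intro a ha
    have ha' : a ∈ Submodule.span A (S : Set A) := hS.symm ▸ (show a ∈ K from ha)
    induction ha' using Submodule.span_induction with
    | mem b hb =>
      obtain ⟨c, hc⟩ := Finset.dvd_prod_of_mem (fun a : {x // x ∈ S} => m a.1 a.2) (Finset.mem_attach S ⟨b, hb⟩)
      rw [hc, mul_comm (m b hb) c, mul_assoc]
      exact J.mul_mem_left _ (hmJ b hb)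
    | zero => simp
    | add b c hb hc h1 h2 =>
      rw [mul_add]
      exact J.add_mem (h1 (show b ∈ K by rw [← hS]; exact hb)) (h2 (show c ∈ K by rw [← hS]; exact hc))
    | smul r b hb h1 =>
      rw [smul_eq_mul, mul_left_comm]
      exact J.mul_mem_left _ (h1 (show b ∈ K by rw [← hS]; exact hb))

variable {X : Scheme.{u}} (G : X.Modules) (ι : G ⟶ Coh.structureModule X)

/-- A section of the subsheaf as a section of the structure sheaf. -/
noncomputable def sec {V : X.Opens} (s : Γ(G, V)) : Γ(X, V) := ι.app V s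

/-- Pairs of an open and a section over it. -/
abbrev Pair : Type u := Σ V : X.Opens, Γ(G, V)

/-- The germs of a finite family generate every stalk at points of `Z`. -/
def Gen (S : Set (Pair G)) (Z : Set X) : Prop :=
  ∀ x ∈ Z, Submodule.span (X.presheaf.stalk x)
    (Set.range fun p : {p : Pair G // p ∈ S ∧ x ∈ p.1} => G.presheaf.germ p.1.1 x p.2.2 p.1.2) = ⊤

variable {G} in
lemma Gen.mono {S T : Set (Pair G)} (h : S ⊆ T) {Z : Set X} (hS : Gen G S Z) : Gen G T Z := fun x hx => by
  refine top_unique ((hS x hx).symm.le.trans (Submodule.span_mono ?_))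
  rintro _ ⟨p, rfl⟩
  exact ⟨⟨p.1, h p.2.1, p.2.2⟩, rfl⟩

/-- The main step: near the generic point of a closed set finitely many sections generate. -/
lemma exists_gen_near [IsLocallyNoetherian X] [Mono ι] (η : X) :
    ∃ (W : X.Opens) (S : Finset (Pair G)), η ∈ W ∧ Gen G ↑S ((W : Set X) ∩ closure {η}) := by
  classical
  obtain ⟨_, ⟨U, hU, rfl⟩, hηU, -⟩ :=
    X.isBasis_affineOpens.exists_subset_of_mem_open (Set.mem_univ η) isOpen_univ
  haveI : IsNoetherianRing Γ(X, U) := IsLocallyNoetherian.component_noetherian ⟨U, hU⟩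
  letI := TopCat.Presheaf.algebra_section_stalk X.presheaf (⟨η, hηU⟩ : U)
  haveI hloc : IsLocalization.AtPrime (X.presheaf.stalk η) (hU.primeIdealOf ⟨η, hηU⟩).asIdeal :=
    hU.isLocalization_stalk ⟨η, hηU⟩
  haveI : IsNoetherianRing (X.presheaf.stalk η) :=
    IsLocalization.isNoetherianRing (hU.primeIdealOf ⟨η, hηU⟩).asIdeal.primeCompl _ inferInstance
  let val : {p : Pair G // η ∈ p.1} → X.presheaf.stalk η :=
    fun p => X.presheaf.germ p.1.1 η p.2 (sec G ι p.1.2)
  obtain ⟨T₀, hT₀sub, hT₀⟩ := (Submodule.fg_span_iff_fg_span_finset_subset (R := X.presheaf.stalk η) (Set.range val)).1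
    (IsNoetherian.noetherian _)
  choose σ hσ using fun (y : {y // y ∈ T₀}) => hT₀sub y.2
  -- a common open inside `U`
  let W₀ : X.Opens := U ⊓ T₀.attach.inf fun y => (σ y).1.1
  have hηW₀ : η ∈ W₀ := by
    refine ⟨hηU, ?_⟩
    have key : ∀ s : Finset {y // y ∈ T₀}, η ∈ s.inf fun y => (σ y).1.1 := fun s => by
      induction s using Finset.induction with
      | empty => simp
      | insert a s _ ih => rw [Finset.inf_insert]; exact ⟨(σ a).2, ih⟩
    exact key _
  obtain ⟨g, hg₀, hηg⟩ := hU.exists_basicOpen_le ⟨η, hηW₀⟩ hηU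
  have hV : IsAffineOpen (X.basicOpen g) := hU.basicOpen g
  generalize hVdef : X.basicOpen g = V at hg₀ hηg hV
  haveI : IsNoetherianRing Γ(X, V) := IsLocallyNoetherian.component_noetherian ⟨V, hV⟩
  have hVσ : ∀ y, V ≤ (σ y).1.1 := fun y =>
    hg₀.trans (inf_le_right.trans (Finset.inf_le (Finset.mem_attach _ y)))
  let s : {y // y ∈ T₀} → Γ(G, V) := fun y => G.presheaf.map (homOfLE (hVσ y)).op (σ y).1.2
  let a : {y // y ∈ T₀} → Γ(X, V) := fun y => sec G ι (s y)
  let J : Ideal Γ(X, V) := Ideal.span (Set.range a)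
  let q : Ideal Γ(X, V) := (hV.primeIdealOf ⟨η, hηg⟩).asIdeal
  obtain ⟨f, hfq, hf⟩ := exists_notMem_mul_mem J q
  letI := TopCat.Presheaf.algebra_section_stalk X.presheaf (⟨η, hηg⟩ : V)
  haveI := hV.isLocalization_stalk ⟨η, hηg⟩
  have haη : ∀ y, X.presheaf.germ V η hηg (a y) = y.1 := fun y => by
    refine Eq.trans ?_ (hσ y)
    change X.presheaf.germ V η hηg (ι.app V (G.presheaf.map (homOfLE (hVσ y)).op (σ y).1.2)) = _
    erw [QCoh.map_app_comm]
    exact X.presheaf.germ_res_apply (homOfLE (hVσ y)) η hηg _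
  refine ⟨X.basicOpen f, Finset.univ.image (fun y => (⟨V, s y⟩ : Pair G)), ?_, ?_⟩
  · rw [X.mem_basicOpen f η hηg]
    exact IsLocalization.map_units (X.presheaf.stalk η) (⟨f, hfq⟩ : q.primeCompl)
  rintro x ⟨hxf, hxη⟩
  have hxV : x ∈ V := X.basicOpen_le f hxf
  have hsp : η ⤳ x := specializes_iff_mem_closure.2 hxη
  letI := TopCat.Presheaf.algebra_section_stalk X.presheaf (⟨x, hxV⟩ : V)
  haveI := hV.isLocalization_stalk ⟨x, hxV⟩
  refine top_unique fun z _ => ?_
  obtain ⟨V', hxV', σ', rfl⟩ := G.presheaf.germ_exist z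
  -- the germ of the section in the stalk of the structure sheaf
  let b := X.presheaf.germ V' x hxV' (sec G ι σ')
  obtain ⟨⟨a', t⟩, hat⟩ := IsLocalization.surj (hV.primeIdealOf ⟨x, hxV⟩).asIdeal.primeCompl b
  have hJη : X.presheaf.stalkSpecializes hsp b ∈
      J.map (algebraMap Γ(X, V) (X.presheaf.stalk η)) := by
    have h1 : X.presheaf.germ V' η (hsp.mem_open V'.isOpen hxV') (sec G ι σ') ∈
        Submodule.span (X.presheaf.stalk η) (T₀ : Set (X.presheaf.stalk η)) := by
      rw [← hT₀]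
      exact Submodule.subset_span ⟨⟨⟨V', σ'⟩, hsp.mem_open V'.isOpen hxV'⟩, rfl⟩
    rw [show X.presheaf.stalkSpecializes hsp b =
      X.presheaf.germ V' η (hsp.mem_open V'.isOpen hxV') (sec G ι σ') from
        X.presheaf.germ_stalkSpecializes_apply hxV' hsp _, Ideal.map_span]
    refine Submodule.span_mono ?_ h1
    intro y hy
    exact ⟨a ⟨y, hy⟩, ⟨_, rfl⟩, haη ⟨y, hy⟩⟩
  have hspec : ∀ c : Γ(X, V), X.presheaf.stalkSpecializes hsp (algebraMap _ (X.presheaf.stalk x) c) =
      algebraMap _ (X.presheaf.stalk η) c := fun c => X.presheaf.germ_stalkSpecializes_apply hxV hsp c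
  have ha' : algebraMap Γ(X, V) (X.presheaf.stalk η) a' ∈ J.map (algebraMap _ _) := by
    have h2 := congrArg (X.presheaf.stalkSpecializes hsp) hat
    rw [map_mul, hspec, hspec] at h2
    rw [← h2]
    exact Ideal.mul_mem_right _ _ hJη
  obtain ⟨m, hm, hma⟩ := (IsLocalization.algebraMap_mem_map_algebraMap_iff q.primeCompl
    (X.presheaf.stalk η) J a').1 ha'
  have hfa : f * a' ∈ J := hf a' ⟨m, hm, hma⟩
  have hbJ : b ∈ J.map (algebraMap Γ(X, V) (X.presheaf.stalk x)) := by
    have h3 : algebraMap Γ(X, V) (X.presheaf.stalk x) a' ∈ J.map (algebraMap _ _) := by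
      have hu : IsUnit (algebraMap Γ(X, V) (X.presheaf.stalk x) f) := (X.mem_basicOpen f x hxV).1 hxf
      have := Ideal.mem_map_of_mem (algebraMap Γ(X, V) (X.presheaf.stalk x)) hfa
      rw [map_mul] at this
      exact (Ideal.unit_mul_mem_iff_mem _ hu).1 this
    rw [← hat] at h3
    exact (Ideal.mul_unit_mem_iff_mem _ (IsLocalization.map_units (X.presheaf.stalk x) t)).1 h3
  rw [Ideal.map_span, Ideal.span, Submodule.mem_span_set'] at hbJ
  obtain ⟨n, c, d, hcd⟩ := hbJ
  choose y hy using fun i => (d i).2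
  have hy' : ∀ i, ∃ y', a y' = y i := fun i => (hy i).1
  choose y' hy'' using hy'
  -- lift the coefficients to sections near `x`
  have hlift : ∀ i, ∃ (O : X.Opens) (hO : x ∈ O) (r : Γ(X, O)), X.presheaf.germ O x hO r = c i :=
    fun i => X.presheaf.germ_exist (c i)
  choose O hO r hr using hlift
  let O' : X.Opens := (V' ⊓ V) ⊓ Finset.univ.inf O
  have hxO' : x ∈ O' := by
    refine ⟨⟨hxV', hxV⟩, ?_⟩
    have key : ∀ t : Finset (Fin n), x ∈ t.inf O := fun t => by
      induction t using Finset.induction with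
      | empty => simp
      | insert a t _ ih => rw [Finset.inf_insert]; exact ⟨hO a, ih⟩
    exact key _
  have hle : O' ≤ V' := inf_le_left.trans inf_le_left
  have hleV : O' ≤ V := inf_le_left.trans inf_le_right
  have hleO : ∀ i, O' ≤ O i := fun i => inf_le_right.trans (Finset.inf_le (Finset.mem_univ i))
  let τ : Γ(G, O') := ∑ i, X.presheaf.map (homOfLE (hleO i)).op (r i) •
    G.presheaf.map (homOfLE hleV).op (s (y' i))
  have hτ : X.presheaf.germ O' x hxO' (sec G ι τ) =
      X.presheaf.germ O' x hxO' (X.presheaf.map (homOfLE hle).op (sec G ι σ')) := by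
    rw [X.presheaf.germ_res_apply]
    refine Eq.trans ?_ hcd
    have h4 : sec G ι τ = ∑ i, X.presheaf.map (homOfLE (hleO i)).op (r i) *
        X.presheaf.map (homOfLE hleV).op (a (y' i)) := by
      change ι.app O' τ = _
      erw [map_sum]
      refine Finset.sum_congr rfl fun i _ => ?_
      erw [Scheme.Modules.Hom.app_smul, QCoh.map_app_comm]
      rfl
    rw [h4, map_sum]
    refine Finset.sum_congr rfl fun i _ => ?_
    rw [map_mul, X.presheaf.germ_res_apply, X.presheaf.germ_res_apply, hr, smul_eq_mul]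
    exact congrArg _ ((congrArg _ (hy'' i)).trans (hy i).2)
  obtain ⟨O'', hxO'', i₁, i₂, hO''⟩ := X.presheaf.germ_eq x hxO' hxO' _ _ hτ
  have hσ'τ : G.presheaf.map i₁.op τ = G.presheaf.map i₂.op (G.presheaf.map (homOfLE hle).op σ') := by
    apply QCoh.app_injective ι O''
    erw [QCoh.map_app_comm, QCoh.map_app_comm, QCoh.map_app_comm]
    exact hO''
  have hgerm : G.presheaf.germ V' x hxV' σ' = G.presheaf.germ O' x hxO' τ := by
    have h5 := congrArg (G.presheaf.germ O'' x hxO'') hσ'τ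
    erw [G.presheaf.germ_res_apply, G.presheaf.germ_res_apply, G.presheaf.germ_res_apply] at h5
    exact h5.symm
  rw [hgerm]
  change G.presheaf.germ O' x hxO' (∑ i, _) ∈ _
  rw [map_sum]
  refine Submodule.sum_mem _ fun i _ => ?_
  erw [PresheafOfModules.germ_smul]
  refine Submodule.smul_mem _ _ (Submodule.subset_span ?_)
  refine ⟨⟨⟨V, s (y' i)⟩, Finset.mem_coe.2 (Finset.mem_image_of_mem _ (Finset.mem_univ _)), hxV⟩, ?_⟩
  exact (G.presheaf.germ_res_apply (homOfLE hleV) x hxO' _).symm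

/-- Finitely many sections generate every stalk. -/
theorem exists_finset_gen [IsNoetherian X] [Mono ι] : ∃ S : Finset (Pair G), Gen G ↑S Set.univ := by
  classical
  suffices h : ∀ Z : Closeds X, ∃ S : Finset (Pair G), Gen G ↑S (Z : Set X) by
    obtain ⟨S, hS⟩ := h ⊤
    exact ⟨S, hS⟩
  intro Z
  induction Z using WellFoundedLT.induction with
  | _ Z ih =>
    by_cases hne : (Z : Set X).Nonempty
    · by_cases hirr : IsPreirreducible (Z : Set X)
      · obtain ⟨η, hη⟩ := QuasiSober.sober (show IsIrreducible (Z : Set X) from ⟨hne, hirr⟩) Z.isClosed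
        obtain ⟨W, S, hηW, hS⟩ := exists_gen_near G ι η
        let Z' : Closeds X := Z ⊓ ⟨(W : Set X)ᶜ, W.isOpen.isClosed_compl⟩
        have hlt : Z' < Z := lt_of_le_of_ne inf_le_left fun h => by
          have hm : η ∈ (Z' : Set X) := by rw [h]; exact hη.mem
          exact hm.2 hηW
        obtain ⟨S', hS'⟩ := ih Z' hlt
        refine ⟨S ∪ S', fun x hx => ?_⟩
        by_cases hxW : x ∈ W
        · exact Gen.mono (by simp) hS x ⟨hxW, hη.def ▸ hx⟩
        · exact Gen.mono (by simp) hS' x ⟨hx, hxW⟩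
      · simp only [isPreirreducible_iff_isClosed_union_isClosed, not_forall, exists_prop, not_or] at hirr
        obtain ⟨z₁, z₂, hz₁, hz₂, hsub, h1, h2⟩ := hirr
        let Z₁ : Closeds X := Z ⊓ ⟨z₁, hz₁⟩
        let Z₂ : Closeds X := Z ⊓ ⟨z₂, hz₂⟩
        obtain ⟨S₁, hS₁⟩ := ih Z₁ (lt_of_le_of_ne inf_le_left fun h => h1 fun x hx => by
          have hm : x ∈ (Z₁ : Set X) := by rw [h]; exact hx
          exact hm.2)
        obtain ⟨S₂, hS₂⟩ := ih Z₂ (lt_of_le_of_ne inf_le_left fun h => h2 fun x hx => by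
          have hm : x ∈ (Z₂ : Set X) := by rw [h]; exact hx
          exact hm.2)
        refine ⟨S₁ ∪ S₂, fun x hx => ?_⟩
        rcases hsub hx with h | h
        · exact Gen.mono (by simp) hS₁ x ⟨hx, h⟩
        · exact Gen.mono (by simp) hS₂ x ⟨hx, h⟩
    · exact ⟨∅, fun x hx => absurd ⟨x, hx⟩ hne⟩

end Groth.Agent.IdealSub
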